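import Groth.Agent.Lib.Helper25.Bidual.Devissage
import Groth.Agent.Lib.Helper25.HomCxPre
import Groth.Agent.Lib.Helper25.HomCxSplit

/-!
# The double dual functor `M ↦ Hom•(Hom(M, J), J)` with respect to a complex `J`
-/

set_option autoImplicit false
universe u

namespace Groth.Agent.Lib.Helper25.Bidual

open CategoryTheory CategoryTheory.Limits HomologicalComplex CochainComplex
open CochainComplex.HomComplex
open Groth.Agent.Lib.Helper25.HomCxPre

variable {A : Type u} [CommRing A] (J : Cx A)

/-- the complex `Hom(M, J^n)` -/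
noncomputable def Dp (M : ModuleCat.{u} A) : Cx A where
  X n := ModuleCat.of A (M →ₗ[A] J.X n)
  d n m := ModuleCat.ofHom (LinearMap.compRight A (J.d n m).hom)
  shape n m h := by
    refine ModuleCat.hom_ext (LinearMap.ext fun (f : M →ₗ[A] J.X n) => LinearMap.ext fun x => ?_)
    change (J.d n m) (f x) = 0
    rw [J.shape n m h]
    rfl
  d_comp_d' n m k _ _ := by
    refine ModuleCat.hom_ext (LinearMap.ext fun (f : M →ₗ[A] J.X n) => LinearMap.ext fun x => ?_)
    exact ConcreteCategory.congr_hom (J.d_comp_d n m k) (f x)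

theorem Dp_d_apply (M : ModuleCat.{u} A) (n m : ℤ) (h : M →ₗ[A] J.X n) (x : M) :
    (show M →ₗ[A] J.X m from ((Dp J M).d n m).hom h) x = J.d n m (h x) := rfl

/-- contravariant functoriality of `Dp` -/
noncomputable def DpMap {M N : ModuleCat.{u} A} (f : M ⟶ N) : Dp J N ⟶ Dp J M where
  f n := ModuleCat.ofHom (LinearMap.lcomp A (J.X n) f.hom)
  comm' n m _ := by
    refine ModuleCat.hom_ext (LinearMap.ext fun (h : N →ₗ[A] J.X n) => LinearMap.ext fun x => ?_)
    rfl

theorem DpMap_f_apply {M N : ModuleCat.{u} A} (f : M ⟶ N) (n : ℤ) (h : N →ₗ[A] J.X n) (x : M) :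
    (show M →ₗ[A] J.X n from ((DpMap J f).f n).hom h) x = h (f x) := rfl

theorem DpMap_id (M : ModuleCat.{u} A) : DpMap J (𝟙 M) = 𝟙 _ := by
  refine HomologicalComplex.hom_ext _ _ fun n => ModuleCat.hom_ext (LinearMap.ext fun
    (h : M →ₗ[A] J.X n) => LinearMap.ext fun x => ?_)
  rfl

theorem DpMap_comp {M N P : ModuleCat.{u} A} (f : M ⟶ N) (g : N ⟶ P) :
    DpMap J (f ≫ g) = DpMap J g ≫ DpMap J f := by
  refine HomologicalComplex.hom_ext _ _ fun n => ModuleCat.hom_ext (LinearMap.ext fun
    (h : P →ₗ[A] J.X n) => LinearMap.ext fun x => ?_)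
  rfl

theorem DpMap_add {M N : ModuleCat.{u} A} (f g : M ⟶ N) :
    DpMap J (f + g) = DpMap J f + DpMap J g := by
  refine HomologicalComplex.hom_ext _ _ fun n => ModuleCat.hom_ext (LinearMap.ext fun
    (h : N →ₗ[A] J.X n) => LinearMap.ext fun x => ?_)
  change h ((f + g).hom x) = h (f.hom x) + h (g.hom x)
  rw [ModuleCat.hom_add, LinearMap.add_apply, map_add]

theorem homCxPre_add {P P' : Cx A} (f g : P ⟶ P') (K : Cx A) :
    homCxPre (f + g) K = homCxPre f K + homCxPre g K := by
  refine HomologicalComplex.hom_ext _ _ fun i => ModuleCat.hom_ext (LinearMap.ext fun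
    (z : Cochain P' K i) => ?_)
  change (Cochain.ofHom (f + g)).comp z (zero_add i) =
    (Cochain.ofHom f).comp z (zero_add i) + (Cochain.ofHom g).comp z (zero_add i)
  rw [Cochain.ofHom_add, Cochain.add_comp]

/-- the double dual functor -/
noncomputable def DD : ModuleCat.{u} A ⥤ Cx A where
  obj M := DRing.homCx (Dp J M) J
  map f := homCxPre (DpMap J f) J
  map_id M := by rw [DpMap_id, homCxPre_id]
  map_comp f g := by rw [DpMap_comp, homCxPre_comp]

instance : (DD J).Additive where
  map_add {M N f g} := by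
    change homCxPre (DpMap J (f + g)) J = homCxPre (DpMap J f) J + homCxPre (DpMap J g) J
    rw [DpMap_add, homCxPre_add]

/-- evaluation at `m` as a morphism of complexes `Hom(M, J) ⟶ J` -/
noncomputable def evHom {M : ModuleCat.{u} A} (m : M) : Dp J M ⟶ J where
  f n := ModuleCat.ofHom (LinearMap.applyₗ m)
  comm' n k _ := by
    refine ModuleCat.hom_ext (LinearMap.ext fun (h : M →ₗ[A] J.X n) => ?_)
    rfl

theorem evHom_f_apply {M : ModuleCat.{u} A} (m : M) (n : ℤ) (h : M →ₗ[A] J.X n) :
    ((evHom J m).f n).hom h = h m := rfl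

theorem evHom_add {M : ModuleCat.{u} A} (m m' : M) : evHom J (m + m') = evHom J m + evHom J m' := by
  refine HomologicalComplex.hom_ext _ _ fun n => ModuleCat.hom_ext (LinearMap.ext fun
    (h : M →ₗ[A] J.X n) => ?_)
  change h (m + m') = h m + h m'
  rw [map_add]

theorem evHom_smul {M : ModuleCat.{u} A} (a : A) (m : M) : evHom J (a • m) = a • evHom J m := by
  refine HomologicalComplex.hom_ext _ _ fun n => ModuleCat.hom_ext (LinearMap.ext fun
    (h : M →ₗ[A] J.X n) => ?_)
  change h (a • m) = a • h m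
  rw [map_smul]

theorem DpMap_comp_evHom {M N : ModuleCat.{u} A} (f : M ⟶ N) (m : M) :
    DpMap J f ≫ evHom J m = evHom J (f m) := by
  refine HomologicalComplex.hom_ext _ _ fun n => ModuleCat.hom_ext (LinearMap.ext fun
    (h : N →ₗ[A] J.X n) => ?_)
  rfl

theorem ofHom_smul {K L : Cx A} (a : A) (f : K ⟶ L) :
    Cochain.ofHom (a • f) = a • Cochain.ofHom f := by
  refine Cochain.ext _ _ (fun p q hpq => ?_)
  obtain rfl : p = q := by omega
  simp [Cochain.ofHom_v]

/-- `m ↦ ev_m` as a linear map into degree-zero cochains -/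
noncomputable def etaLin (M : ModuleCat.{u} A) : M →ₗ[A] Cochain (Dp J M) J 0 where
  toFun m := Cochain.ofHom (evHom J m)
  map_add' m m' := by rw [evHom_add, Cochain.ofHom_add]
  map_smul' a m := by
    rw [evHom_smul, ofHom_smul]
    rfl

/-- the biduality map `M[0] ⟶ Hom•(Hom(M, J), J)` -/
noncomputable def etaApp (M : ModuleCat.{u} A) : (sgl0 A).obj M ⟶ (DD J).obj M :=
  HomologicalComplex.mkHomFromSingle (ModuleCat.ofHom (etaLin J M)) (fun k _ => by
    refine ModuleCat.hom_ext (LinearMap.ext fun (m : M) => ?_)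
    change δ 0 k (Cochain.ofHom (evHom J m)) = 0
    exact δ_ofHom _)

/-- the biduality natural transformation -/
noncomputable def eta : sgl0 A ⟶ DD J where
  app M := etaApp J M
  naturality M N f := by
    apply HomologicalComplex.from_single_hom_ext
    have key : f ≫ ModuleCat.ofHom (etaLin J N) =
        ModuleCat.ofHom (etaLin J M) ≫ ((DD J).map f).f 0 := by
      refine ModuleCat.hom_ext (LinearMap.ext fun (m : M) => ?_)
      change Cochain.ofHom (evHom J (f m)) =
        (Cochain.ofHom (DpMap J f)).comp (Cochain.ofHom (evHom J m)) (zero_add 0)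
      rw [← Cochain.ofHom_comp, DpMap_comp_evHom]
    dsimp [etaApp]
    rw [HomologicalComplex.mkHomFromSingle_f, HomologicalComplex.mkHomFromSingle_f,
      HomologicalComplex.single_map_f_self]
    simp only [Category.assoc, Iso.inv_hom_id_assoc]
    exact congrArg (fun t => (singleObjXSelf (ComplexShape.up ℤ) 0 M).hom ≫ t) key

end Groth.Agent.Lib.Helper25.Bidual
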