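import Mathlib.Algebra.Homology.HomologySequenceLemmas
import Mathlib.Algebra.Homology.HomologicalComplexLimits
import Mathlib.Algebra.Homology.ShortComplex.ModuleCat
import Mathlib.Algebra.Homology.Single
import Mathlib.Algebra.Homology.SingleHomology
import Mathlib.RingTheory.Finiteness.Cardinality
import Mathlib.Algebra.Homology.QuasiIso
import Mathlib.Algebra.Category.ModuleCat.Biproducts
import Mathlib.Algebra.Category.ModuleCat.Abelian
import Mathlib.CategoryTheory.Limits.Preserves.Shapes.Biproducts
import Mathlib.RingTheory.Noetherian.Basic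
import Mathlib.LinearAlgebra.Pi

/-!
# A dévissage lemma for natural maps `M[0] ⟶ G(M)`

Let `A` be a Noetherian ring, `G` an additive functor from `A`-modules to cochain complexes which
preserves short exact sequences and has cohomology bounded above uniformly, and
`η : M[0] ⟶ G(M)` a natural transformation which is a quasi-isomorphism for `M = A`.
Then `η_M` is a quasi-isomorphism for every finite module `M`.
-/

set_option autoImplicit false
universe u

namespace Groth.Agent.Lib.Helper25.Bidual

open CategoryTheory CategoryTheory.Limits HomologicalComplex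

section Abstract

variable {C D : Type*} [Category C] [Category D] [Preadditive C] [Preadditive D]
  [HasBinaryBiproducts C] [HasBinaryBiproducts D]

theorem isIso_app_biprod (F F' : C ⥤ D) [F.Additive] [F'.Additive] (τ : F ⟶ F')
    (M N : C) [IsIso (τ.app M)] [IsIso (τ.app N)] : IsIso (τ.app (M ⊞ N)) := by
  refine ⟨F'.map biprod.fst ≫ inv (τ.app M) ≫ F.map biprod.inl +
    F'.map biprod.snd ≫ inv (τ.app N) ≫ F.map biprod.inr, ?_, ?_⟩
  · rw [Preadditive.comp_add, ← τ.naturality_assoc, ← τ.naturality_assoc, IsIso.hom_inv_id_assoc,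
      IsIso.hom_inv_id_assoc, ← Functor.map_comp, ← Functor.map_comp, ← Functor.map_add,
      biprod.total, CategoryTheory.Functor.map_id]
  · rw [Preadditive.add_comp, Category.assoc, Category.assoc, Category.assoc, Category.assoc,
      τ.naturality, τ.naturality, IsIso.inv_hom_id_assoc, IsIso.inv_hom_id_assoc,
      ← Functor.map_comp, ← Functor.map_comp, ← Functor.map_add, biprod.total,
      CategoryTheory.Functor.map_id]

end Abstract

variable {A : Type u} [CommRing A]

/-- complexes of modules -/
abbrev Cx (A : Type u) [CommRing A] := CochainComplex (ModuleCat.{u} A) ℤ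

/-- a module as a complex in degree `0` -/
noncomputable abbrev sgl0 (A : Type u) [CommRing A] : ModuleCat.{u} A ⥤ Cx A :=
  HomologicalComplex.single (ModuleCat.{u} A) (ComplexShape.up ℤ) 0

variable (G : ModuleCat.{u} A ⥤ Cx A) [G.Additive] (η : sgl0 A ⟶ G)

/-- the natural transformation induced on `i`-th cohomology -/
noncomputable abbrev hNat (i : ℤ) :
    sgl0 A ⋙ homologyFunctor (ModuleCat.{u} A) (ComplexShape.up ℤ) i ⟶
      G ⋙ homologyFunctor (ModuleCat.{u} A) (ComplexShape.up ℤ) i :=
  Functor.whiskerRight η _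

theorem quasiIso_iff_hNat (M : ModuleCat.{u} A) :
    QuasiIso (η.app M) ↔ ∀ i : ℤ, IsIso ((hNat G η i).app M) := by
  rw [quasiIso_iff]
  constructor
  · intro h i
    have := h i
    rw [quasiIsoAt_iff_isIso_homologyMap] at this
    exact this
  · intro h i
    rw [quasiIsoAt_iff_isIso_homologyMap]
    exact h i

theorem quasiIso_biprod (M N : ModuleCat.{u} A) (hM : QuasiIso (η.app M)) (hN : QuasiIso (η.app N)) :
    QuasiIso (η.app (M ⊞ N)) := by
  rw [quasiIso_iff_hNat] at hM hN ⊢
  intro i
  haveI := hM i
  haveI := hN i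
  exact isIso_app_biprod _ _ (hNat G η i) M N

theorem quasiIso_of_iso {M N : ModuleCat.{u} A} (e : M ≅ N) (hM : QuasiIso (η.app M)) :
    QuasiIso (η.app N) := by
  have h : η.app N = (sgl0 A).map e.inv ≫ η.app M ≫ G.map e.hom := by
    rw [← η.naturality, ← Category.assoc, ← Functor.map_comp, e.inv_hom_id,
      CategoryTheory.Functor.map_id, Category.id_comp]
  rw [h]
  haveI : IsIso ((sgl0 A).map e.inv) := inferInstance
  haveI : IsIso (G.map e.hom) := inferInstance
  infer_instance

theorem quasiIso_zero (M : ModuleCat.{u} A) (hM : IsZero M) : QuasiIso (η.app M) := by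
  have h1 : IsZero ((sgl0 A).obj M) := Functor.map_isZero _ hM
  have h2 : IsZero (G.obj M) := Functor.map_isZero _ hM
  haveI : IsIso (η.app M) := ⟨0, h1.eq_of_src _ _, h2.eq_of_src _ _⟩
  infer_instance

theorem quasiIso_free (hA : QuasiIso (η.app (ModuleCat.of A A))) (n : ℕ) :
    QuasiIso (η.app (ModuleCat.of A (Fin n → A))) := by
  induction n with
  | zero =>
    apply quasiIso_zero
    apply ModuleCat.isZero_of_subsingleton
  | succ n ih =>
    have h := quasiIso_biprod G η _ _ hA ih
    refine quasiIso_of_iso G η (ModuleCat.biprodIsoProd _ _ ≪≫ ?_) h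
    exact (Fin.consLinearEquiv A (fun _ : Fin (n + 1) => A)).toModuleIso

section Main

variable [IsNoetherianRing A]
  (hex : ∀ S : ShortComplex (ModuleCat.{u} A), S.ShortExact → (S.map G).ShortExact)
  (N : ℤ) (hN : ∀ (M : ModuleCat.{u} A) (i : ℤ), N < i → IsZero ((G.obj M).homology i))
  (hA : QuasiIso (η.app (ModuleCat.of A A)))

omit [IsNoetherianRing A] [G.Additive] in
theorem shortExact_map_sgl0 (S : ShortComplex (ModuleCat.{u} A)) (hS : S.ShortExact) :
    (S.map (sgl0 A)).ShortExact :=
  hS.map_of_exact (sgl0 A)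

omit [IsNoetherianRing A] [G.Additive] in
theorem mono_homologyMap_of_ne (M : ModuleCat.{u} A) (i : ℤ) (hi : i ≠ 0) :
    Mono (homologyMap (η.app M) i) :=
  ⟨fun _ _ _ => (isZero_single_obj_homology (ComplexShape.up ℤ) 0 M i hi).eq_of_tgt _ _⟩

include hex hN hA in
theorem epi_homologyMap (k : ℕ) : ∀ (i : ℤ), N + 1 - k ≤ i → ∀ (M : Type u) [AddCommGroup M]
    [Module A M] [Module.Finite A M], Epi (homologyMap (η.app (ModuleCat.of A M)) i) := by
  induction k with
  | zero =>
    intro i hi M _ _ _
    exact ⟨fun _ _ _ => (hN _ i (by omega)).eq_of_src _ _⟩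
  | succ k ih =>
    intro i hi M _ _ _
    obtain ⟨n, p, hp⟩ := Module.Finite.exists_fin' A M
    have hS := LinearMap.shortExact_shortComplexKer hp
    have hF : QuasiIso (η.app (ModuleCat.of A (Fin n → A))) := quasiIso_free G η hA n
    have hFi : ∀ j, IsIso (homologyMap (η.app (ModuleCat.of A (Fin n → A))) j) := fun j =>
      (quasiIso_iff_hNat G η _).1 hF j
    exact HomologySequence.epi_homologyMap_τ₃ (p.shortComplexKer.mapNatTrans η) (shortExact_map_sgl0 _ hS)
      (hex _ hS) i (by haveI := hFi i; exact inferInstanceAs (Epi (homologyMap (η.app _) i)))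
      (fun j hj => by
        have hj' : i + 1 = j := hj
        exact ih j (by omega) (LinearMap.ker p))
      (fun j _ => by haveI := hFi j; exact inferInstanceAs (Mono (homologyMap (η.app _) j)))

include hex hN hA in
theorem quasiIso_of_finite (M : Type u) [AddCommGroup M] [Module A M] [Module.Finite A M] :
    QuasiIso (η.app (ModuleCat.of A M)) := by
  have hepi : ∀ (i : ℤ) (M : Type u) [AddCommGroup M] [Module A M] [Module.Finite A M],
      Epi (homologyMap (η.app (ModuleCat.of A M)) i) := fun i M _ _ _ =>
    epi_homologyMap G η hex N hN hA (N + 1 - i).toNat i (by omega) M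
  rw [quasiIso_iff]
  intro i
  rw [quasiIsoAt_iff_isIso_homologyMap]
  haveI := hepi i M
  suffices Mono (homologyMap (η.app (ModuleCat.of A M)) i) from isIso_of_mono_of_epi _
  by_cases hi : i = 0
  · subst hi
    obtain ⟨n, p, hp⟩ := Module.Finite.exists_fin' A M
    have hS := LinearMap.shortExact_shortComplexKer hp
    have hF : QuasiIso (η.app (ModuleCat.of A (Fin n → A))) := quasiIso_free G η hA n
    have hFi : ∀ j, IsIso (homologyMap (η.app (ModuleCat.of A (Fin n → A))) j) := fun j =>
      (quasiIso_iff_hNat G η _).1 hF j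
    exact HomologySequence.mono_homologyMap_τ₃ (p.shortComplexKer.mapNatTrans η) (shortExact_map_sgl0 _ hS)
      (hex _ hS) 0 (hepi 0 (LinearMap.ker p))
      (by haveI := hFi 0; exact inferInstanceAs (Mono (homologyMap (η.app _) 0)))
      (fun j hj => by
        have hj' : (0 : ℤ) + 1 = j := hj
        exact mono_homologyMap_of_ne G η _ j (by omega))
  · exact mono_homologyMap_of_ne G η _ i hi

end Main

end Groth.Agent.Lib.Helper25.Bidual
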