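import Groth.Agent.Lib.Helper25.Bidual.Exact
import Groth.Agent.Lib.Helper25.QisElem2
import Groth.Agent.Lib.Helper25.LocColim.Kappa

/-!
# Elementwise consequences of biduality; morphisms in the derived category
-/

set_option autoImplicit false
universe u

namespace Groth.Agent.Lib.Helper25.Bidual

open CategoryTheory CategoryTheory.Limits HomologicalComplex CochainComplex
open CochainComplex.HomComplex DerivedCategory
open Groth.Agent.Lib.Helper25.LocColim

attribute [local instance] HasDerivedCategory.standard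

variable {A : Type u} [CommRing A]

theorem Qmap_eq_of_delta {K L : Cx A} (φ ψ : K ⟶ L) (w : Cochain K L (-1))
    (h : Cochain.ofHom φ - Cochain.ofHom ψ = δ (-1) 0 w) : Q.map φ = Q.map ψ := by
  have ho : Homotopy φ ψ := (Cochain.equivHomotopy φ ψ).symm ⟨w, by rw [← h]; abel⟩
  change Qh.map ((HomotopyCategory.quotient _ _).map φ) =
    Qh.map ((HomotopyCategory.quotient _ _).map ψ)
  rw [HomotopyCategory.eq_of_homotopy _ _ ho]

theorem exists_delta_of_Qmap_eq {K L : Cx A} [L.IsKInjective] (φ ψ : K ⟶ L)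
    (h : Q.map φ = Q.map ψ) :
    ∃ w : Cochain K L (-1), Cochain.ofHom φ - Cochain.ofHom ψ = δ (-1) 0 w := by
  have h1 : (HomotopyCategory.quotient _ _).map φ = (HomotopyCategory.quotient _ _).map ψ :=
    (CochainComplex.IsKInjective.Qh_map_bijective
      ((HomotopyCategory.quotient _ _).obj K) L).injective h
  have ho := HomotopyCategory.homotopyOfEq _ _ h1
  obtain ⟨w, hw⟩ := Cochain.equivHomotopy φ ψ ho
  exact ⟨w, by rw [hw]; abel⟩

theorem exists_Qmap_eq {K : Cx A} (J : Cx A) [J.IsKInjective] (ψ : Q.obj K ⟶ Q.obj J) :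
    ∃ h : K ⟶ J, Q.map h = ψ := by
  obtain ⟨ψ', hψ'⟩ := (CochainComplex.IsKInjective.Qh_map_bijective
    ((HomotopyCategory.quotient _ _).obj K) J).surjective ψ
  obtain ⟨h, rfl⟩ := (HomotopyCategory.quotient _ _).map_surjective ψ'
  exact ⟨h, hψ'⟩

variable (J : Cx A) (M : ModuleCat.{u} A)

section Elem

variable (hq : QuasiIso ((eta J).app M))

theorem eta_f_zero (x : ((sgl0 A).obj M).X 0) :
    ((eta J).app M).f 0 x =
      Cochain.ofHom (evHom J ((singleObjXSelf (ComplexShape.up ℤ) 0 M).hom x)) := by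
  have h : ((eta J).app M).f 0 = (singleObjXSelf (ComplexShape.up ℤ) 0 M).hom ≫
      ModuleCat.ofHom (etaLin J M) := by
    dsimp only [eta, etaApp]
    rw [HomologicalComplex.mkHomFromSingle_f]
    rfl
  rw [h]
  rfl

include hq in
theorem E1 (i j k : ℤ) (hij : i + 1 = j) (hjk : j + 1 = k) (hj : j ≠ 0)
    (z : Cochain (Dp J M) J j) (hz : δ j k z = 0) :
    ∃ w : Cochain (Dp J M) J i, δ i j w = z := by
  haveI := hq
  obtain ⟨x, w, -, hw⟩ := Groth.Agent.Lib.Helper25.QisElem.surj_of_quasiIso ((eta J).app M)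
    i j k hij hjk z hz
  have hx : x = 0 := (ModuleCat.subsingleton_of_isZero
    (HomologicalComplex.isZero_single_obj_X (ComplexShape.up ℤ) 0 M j hj)).elim _ _
  rw [hx, map_zero, sub_zero] at hw
  exact ⟨w, hw.symm⟩

include hq in
theorem E2 (z : Cochain (Dp J M) J 0) (hz : δ 0 1 z = 0) :
    ∃ (m : M) (w : Cochain (Dp J M) J (-1)), z - Cochain.ofHom (evHom J m) = δ (-1) 0 w := by
  haveI := hq
  obtain ⟨x, w, -, hw⟩ := Groth.Agent.Lib.Helper25.QisElem.surj_of_quasiIso ((eta J).app M)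
    (-1) 0 1 (by omega) (by omega) z hz
  rw [eta_f_zero] at hw
  exact ⟨_, w, hw⟩

include hq in
theorem E3 (m : M) (w : Cochain (Dp J M) J (-1))
    (h : Cochain.ofHom (evHom J m) = δ (-1) 0 w) : m = 0 := by
  haveI := hq
  set x : ((sgl0 A).obj M).X 0 := (singleObjXSelf (ComplexShape.up ℤ) 0 M).inv m with hx
  have hxm : (singleObjXSelf (ComplexShape.up ℤ) 0 M).hom x = m := by
    rw [hx]
    exact ConcreteCategory.congr_hom (singleObjXSelf (ComplexShape.up ℤ) 0 M).inv_hom_id m
  obtain ⟨w', hw'⟩ := Groth.Agent.Lib.Helper25.QisElem.inj_of_quasiIso ((eta J).app M)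
    (-1) 0 1 (by omega) (by omega) x (by
      rw [HomologicalComplex.single_obj_d]
      rfl) w (by
      rw [eta_f_zero, hxm, h]
      rfl)
  rw [HomologicalComplex.single_obj_d] at hw'
  rw [← hxm, ← hw']
  exact map_zero _

end Elem

section Derived

variable [J.IsKInjective] (hq : QuasiIso ((eta J).app M))

include hq in
theorem subsingleton_hom_shift (i : ℤ) (hi : i ≠ 0) :
    Subsingleton (Q.obj (Dp J M) ⟶ (Q.obj J)⟦i⟧) := by
  suffices ∀ φ : Q.obj (Dp J M) ⟶ (Q.obj J)⟦i⟧, φ = 0 from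
    ⟨fun φ ψ => by rw [this φ, this ψ]⟩
  intro φ
  obtain ⟨x, rfl⟩ := kappa_surjective _ _ i φ
  rw [kappa_mk_eq_zero_iff, mem_coboundaries_iff x (i - 1) (by omega)]
  obtain ⟨w, hw⟩ := E1 J M hq (i - 1) i (i + 1) (by omega) rfl hi x.1 (by
    exact Cocycle.δ_eq_zero x (i + 1))
  exact ⟨w, hw⟩

include hq in
theorem bijective_Qmap_evHom :
    Function.Bijective (fun m : M => Q.map (evHom J m)) := by
  constructor
  · intro m m' h
    dsimp only at h
    have h0 : Q.map (evHom J (m - m')) = Q.map (0 : Dp J M ⟶ J) := by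
      have : evHom J (m - m') = evHom J m - evHom J m' := by
        rw [sub_eq_add_neg, evHom_add, ← neg_one_smul A m', evHom_smul, neg_one_smul,
          ← sub_eq_add_neg]
      rw [this, Functor.map_sub, h, sub_self, Functor.map_zero]
    obtain ⟨w, hw⟩ := exists_delta_of_Qmap_eq _ _ h0
    rw [Cochain.ofHom_zero, sub_zero] at hw
    exact sub_eq_zero.1 (E3 J M hq _ w hw)
  · intro ψ
    obtain ⟨h, rfl⟩ := exists_Qmap_eq J ψ
    obtain ⟨m, w, hw⟩ := E2 J M hq (Cochain.ofHom h) (δ_ofHom _)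
    exact ⟨m, (Qmap_eq_of_delta _ _ w hw).symm⟩

end Derived

end Groth.Agent.Lib.Helper25.Bidual
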