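import Groth.Agent.Lib.Helper25.Bidual.DD
import Mathlib.CategoryTheory.Preadditive.Injective.Basic
import Mathlib.Algebra.Homology.HomologicalComplexAbelian

/-!
# Exactness and boundedness of the double dual functor
-/

set_option autoImplicit false
universe u

namespace Groth.Agent.Lib.Helper25.Bidual

open CategoryTheory CategoryTheory.Limits HomologicalComplex CochainComplex
open CochainComplex.HomComplex
open Groth.Agent.Lib.Helper25.HomCxPre Groth.Agent.Lib.Helper25.HomCxSplit

variable {A : Type u} [CommRing A] (J : Cx A)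

section Pre

theorem precomp_v {P P' : Cx A} (f : P ⟶ P') {n : ℤ} (z : Cochain P' J n) (p q : ℤ)
    (hpq : p + n = q) :
    ((Cochain.ofHom f).comp z (zero_add n)).v p q hpq = f.f p ≫ z.v p q hpq := by
  rw [Cochain.zero_cochain_comp_v, Cochain.ofHom_v]

/-- `Hom•(-, J)` turns short exact sequences of complexes into short exact sequences when `J` is
termwise injective -/
theorem shortExact_preSC (S : ShortComplex (Cx A)) (hS : S.ShortExact)
    (hJ : ∀ n, Injective (J.X n)) : (preSC J S).ShortExact := by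
  haveI := hS.mono_f
  haveI := hS.epi_g
  have hdeg := fun p => hS.map_of_exact (eval (ModuleCat.{u} A) (ComplexShape.up ℤ) p)
  refine HomologicalComplex.shortExact_of_degreewise_shortExact _ (fun n => ?_)
  refine ModuleCat.shortComplex_shortExact _ ?_ ?_ ?_
  · -- exactness
    intro (w : Cochain S.X₂ J n)
    constructor
    · intro (hw : (Cochain.ofHom S.f).comp w (zero_add n) = 0)
      have hw' : ∀ p q (hpq : p + n = q), S.f.f p ≫ w.v p q hpq = 0 := fun p q hpq => by
        rw [← precomp_v, hw, Cochain.zero_v]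
      haveI : ∀ p, Epi ((S.map (eval (ModuleCat.{u} A) (ComplexShape.up ℤ) p)).g) := fun p =>
        (hdeg p).epi_g
      refine ⟨(Cochain.mk fun p q hpq => (hdeg p).exact.desc (w.v p q hpq) (hw' p q hpq) :
        Cochain S.X₃ J n), ?_⟩
      change (Cochain.ofHom S.g).comp _ (zero_add n) = w
      refine Cochain.ext _ _ (fun p q hpq => ?_)
      rw [precomp_v, Cochain.mk_v]
      exact (hdeg p).exact.g_desc _ _
    · rintro ⟨(z : Cochain S.X₃ J n), rfl⟩
      change (Cochain.ofHom S.f).comp ((Cochain.ofHom S.g).comp z (zero_add n)) (zero_add n) = 0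
      refine Cochain.ext _ _ (fun p q hpq => ?_)
      rw [precomp_v, precomp_v, Cochain.zero_v, ← Category.assoc, ← HomologicalComplex.comp_f,
        S.zero, HomologicalComplex.zero_f, zero_comp]
  · -- injectivity
    intro (z : Cochain S.X₃ J n) (z' : Cochain S.X₃ J n)
      (h : (Cochain.ofHom S.g).comp z (zero_add n) = (Cochain.ofHom S.g).comp z' (zero_add n))
    refine Cochain.ext _ _ (fun p q hpq => ?_)
    have := congrArg (fun c : Cochain S.X₂ J n => c.v p q hpq) h
    simp only [precomp_v] at this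
    exact (cancel_epi (S.g.f p)).1 this
  · -- surjectivity
    intro (u : Cochain S.X₁ J n)
    haveI := hJ
    refine ⟨(Cochain.mk fun p q hpq => Injective.factorThru (u.v p q hpq) (S.f.f p) :
      Cochain S.X₂ J n), ?_⟩
    change (Cochain.ofHom S.f).comp _ (zero_add n) = u
    refine Cochain.ext _ _ (fun p q hpq => ?_)
    rw [precomp_v, Cochain.mk_v, Injective.comp_factorThru]

end Pre

/-- the short complex `Hom(M₃, J) ⟶ Hom(M₂, J) ⟶ Hom(M₁, J)` -/
noncomputable def DpSC (S : ShortComplex (ModuleCat.{u} A)) : ShortComplex (Cx A) :=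
  ShortComplex.mk (DpMap J S.g) (DpMap J S.f) (by
    rw [← DpMap_comp, S.zero]
    refine HomologicalComplex.hom_ext _ _ fun n => ModuleCat.hom_ext (LinearMap.ext fun
      (h : S.X₃ →ₗ[A] J.X n) => LinearMap.ext fun x => ?_)
    change h ((0 : S.X₁ ⟶ S.X₃).hom x) = 0
    rw [ModuleCat.hom_zero, LinearMap.zero_apply, map_zero])

theorem shortExact_DpSC (S : ShortComplex (ModuleCat.{u} A)) (hS : S.ShortExact)
    (hJ : ∀ n, Injective (J.X n)) : (DpSC J S).ShortExact := by
  haveI := hS.mono_f
  haveI := hS.epi_g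
  refine HomologicalComplex.shortExact_of_degreewise_shortExact _ (fun n => ?_)
  refine ModuleCat.shortComplex_shortExact _ ?_ ?_ ?_
  · intro (h : S.X₂ →ₗ[A] J.X n)
    constructor
    · intro (hh : h.comp S.f.hom = 0)
      have hk : S.f ≫ ModuleCat.ofHom h = 0 := ModuleCat.hom_ext hh
      refine ⟨((hS.exact.desc (ModuleCat.ofHom h) hk).hom : S.X₃ →ₗ[A] J.X n), ?_⟩
      have := hS.exact.g_desc (ModuleCat.ofHom h) hk
      exact congrArg ModuleCat.Hom.hom this
    · rintro ⟨(h' : S.X₃ →ₗ[A] J.X n), rfl⟩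
      change (h'.comp S.g.hom).comp S.f.hom = 0
      rw [LinearMap.comp_assoc, ← ModuleCat.hom_comp, S.zero, ModuleCat.hom_zero,
        LinearMap.comp_zero]
  · intro (h : S.X₃ →ₗ[A] J.X n) (h' : S.X₃ →ₗ[A] J.X n) (e : h.comp S.g.hom = h'.comp S.g.hom)
    have hsurj := hS.moduleCat_surjective_g
    refine LinearMap.ext fun y => ?_
    obtain ⟨x, rfl⟩ := hsurj y
    exact LinearMap.congr_fun e x
  · intro (h : S.X₁ →ₗ[A] J.X n)
    haveI := hJ n
    refine ⟨((Injective.factorThru (ModuleCat.ofHom h) S.f).hom : S.X₂ →ₗ[A] J.X n), ?_⟩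
    have := Injective.comp_factorThru (ModuleCat.ofHom h) S.f
    exact congrArg ModuleCat.Hom.hom this

/-- the double dual functor is exact when `J` is termwise injective -/
theorem shortExact_map_DD (hJ : ∀ n, Injective (J.X n)) (S : ShortComplex (ModuleCat.{u} A))
    (hS : S.ShortExact) : (S.map (DD J)).ShortExact :=
  shortExact_preSC J (DpSC J S) (shortExact_DpSC J S hS hJ) hJ

/-- boundedness -/
theorem isZero_DD_X (a b : ℤ) (hJ : ∀ i, (i < a ∨ b < i) → IsZero (J.X i)) (M : ModuleCat.{u} A)
    (n : ℤ) (hn : b - a < n) : IsZero (((DD J).obj M).X n) := by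
  have : Subsingleton (Cochain (Dp J M) J n) := ⟨fun z z' => by
    refine Cochain.ext _ _ (fun p q hpq => ?_)
    by_cases hq : b < q
    · exact (hJ q (Or.inr hq)).eq_of_tgt _ _
    · have hp : p < a := by omega
      have hz : IsZero ((Dp J M).X p) := by
        have : Subsingleton (M →ₗ[A] J.X p) := ⟨fun f g => LinearMap.ext fun x =>
          (ModuleCat.subsingleton_of_isZero (hJ p (Or.inl hp))).elim _ _⟩
        change IsZero (ModuleCat.of A (M →ₗ[A] J.X p))
        exact ModuleCat.isZero_of_subsingleton _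
      exact hz.eq_of_src _ _⟩
  change IsZero (ModuleCat.of A (Cochain (Dp J M) J n))
  exact ModuleCat.isZero_of_subsingleton _

theorem isZero_DD_homology (a b : ℤ) (hJ : ∀ i, (i < a ∨ b < i) → IsZero (J.X i))
    (M : ModuleCat.{u} A) (n : ℤ) (hn : b - a < n) : IsZero (((DD J).obj M).homology n) :=
  ShortComplex.isZero_homology_of_isZero_X₂ _ (isZero_DD_X J a b hJ M n hn)

end Groth.Agent.Lib.Helper25.Bidual
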