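import Groth.Agent.Lib.Helper25.Bidual.Elem
import Groth.Agent.Lib.Helper25.LocColim.Single
import Groth.Agent.Lib.Helper25.KFlat
import Mathlib.LinearAlgebra.Basis.VectorSpace

/-!
# Dualizing complexes over a field

If `C` is a K-injective complex of vector spaces over a field `κ` with `κ ≃ End_{D(κ)}(C)` and no
self-maps of nonzero degree, then `C` has exactly one nonzero cohomology space, of dimension one.
-/

set_option autoImplicit false
universe u

namespace Groth.Agent.Lib.Helper25.Bidual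

open CategoryTheory CategoryTheory.Limits HomologicalComplex CochainComplex
open CochainComplex.HomComplex DerivedCategory
open Groth.Agent.Lib.Helper25.LocColim

attribute [local instance] HasDerivedCategory.standard

variable {κ : Type u} [Field κ] (C : Cx κ)

/-- `x ↦ f x • w` as a morphism -/
noncomputable def rankOne {a b : ℤ} (f : C.X b →ₗ[κ] κ) (w : C.X a) : C.X b ⟶ C.X a :=
  ModuleCat.ofHom (f.smulRight w)

theorem rankOne_apply {a b : ℤ} (f : C.X b →ₗ[κ] κ) (w : C.X a) (x : C.X b) :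
    rankOne C f w x = f x • w := rfl

theorem δ_single_rankOne {a b : ℤ} (f : C.X b →ₗ[κ] κ) (w : C.X a)
    (hf : ∀ v : C.X (b - 1), f (C.d (b - 1) b v) = 0) (hw : C.d a (a + 1) w = 0) (n m : ℤ)
    (hm : n + 1 = m) : δ n m (Cochain.single (rankOne C f w) n) = 0 := by
  rw [Cochain.δ_single (rankOne C f w) n m hm (b - 1) (a + 1) (by omega) rfl]
  have h1 : rankOne C f w ≫ C.d a (a + 1) = 0 := by
    refine ModuleCat.hom_ext (LinearMap.ext fun x => ?_)
    change C.d a (a + 1) (f x • w) = 0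
    rw [map_smul, hw, smul_zero]
  have h2 : C.d (b - 1) b ≫ rankOne C f w = 0 := by
    refine ModuleCat.hom_ext (LinearMap.ext fun v => ?_)
    change f (C.d (b - 1) b v) • w = 0
    rw [hf, zero_smul]
  rw [h1, h2, Cochain.single_zero, Cochain.single_zero, smul_zero, add_zero]

theorem δ_v_apply_cocycle {n m : ℤ} (hnm : n + 1 = m) (Ψ : Cochain C C n) (b a : ℤ)
    (hba : b + m = a) (z : C.X b) (hz : C.d b (b + 1) z = 0) :
    (δ n m Ψ).v b a hba z = C.d (a - 1) a (Ψ.v b (a - 1) (by omega) z) := by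
  rw [δ_v n m hnm Ψ b a hba (a - 1) (b + 1) (by omega) rfl]
  change C.d (a - 1) a (Ψ.v b (a - 1) _ z) + (m.negOnePow • (C.d b (b + 1) ≫ Ψ.v (b + 1) a _)).hom z = _
  rw [ModuleCat.hom_smul, LinearMap.smul_apply, ModuleCat.hom_comp, LinearMap.comp_apply, hz,
    map_zero, smul_zero, add_zero]

variable [C.IsKInjective]

section Ext

variable (hExt : ∀ j : ℤ, j ≠ 0 → Subsingleton (Q.obj C ⟶ (Q.obj C)⟦j⟧))

include hExt in
/-- two nonzero cohomology classes live in the same degree -/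
theorem cobdry_of_ne {a b : ℤ} (hab : a ≠ b) (z : C.X b) (hz : C.d b (b + 1) z = 0)
    (hz' : ¬ ∃ v : C.X (b - 1), C.d (b - 1) b v = z) (w : C.X a) (hw : C.d a (a + 1) w = 0) :
    ∃ v : C.X (a - 1), C.d (a - 1) a v = w := by
  obtain ⟨f, hfz, hf⟩ := Submodule.exists_le_ker_of_notMem
    (p := LinearMap.range (C.d (b - 1) b).hom) (v := z) (fun ⟨v, hv⟩ => hz' ⟨v, hv⟩)
  have hf' : ∀ v : C.X (b - 1), f (C.d (b - 1) b v) = 0 := fun v => hf ⟨v, rfl⟩
  have hcoc := δ_single_rankOne C f w hf' hw (a - b) (a - b + 1) rfl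
  let Φ : Cocycle C C (a - b) := Cocycle.mk (Cochain.single (rankOne C f w) (a - b))
    (a - b + 1) rfl hcoc
  haveI := hExt (a - b) (by omega)
  have hk : kappa C C (a - b) (CohomologyClass.mk Φ) = 0 := Subsingleton.elim _ _
  rw [kappa_mk_eq_zero_iff, mem_coboundaries_iff Φ (a - b - 1) (by omega)] at hk
  obtain ⟨Ψ, hΨ⟩ := hk
  have h1 := δ_v_apply_cocycle C (show a - b - 1 + 1 = a - b by omega) Ψ b a (by omega) z hz
  rw [hΨ] at h1
  change (Cochain.single (rankOne C f w) (a - b)).v b a _ z = _ at h1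
  rw [Cochain.single_v, rankOne_apply] at h1
  refine ⟨(f z)⁻¹ • Ψ.v b (a - 1) (by omega) z, ?_⟩
  rw [map_smul, ← h1, smul_smul, inv_mul_cancel₀ hfz, one_smul]

end Ext

section End

variable (hEnd : Function.Surjective (fun c : κ => c • 𝟙 (Q.obj C)))

include hEnd in
/-- cohomology spaces are at most one-dimensional -/
theorem exists_smul_cobdry {a : ℤ} (z : C.X a) (hz : C.d a (a + 1) z = 0)
    (hz' : ¬ ∃ v : C.X (a - 1), C.d (a - 1) a v = z) (w : C.X a) (hw : C.d a (a + 1) w = 0) :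
    ∃ (c : κ) (v : C.X (a - 1)), C.d (a - 1) a v = w - c • z := by
  obtain ⟨f, hfz, hf⟩ := Submodule.exists_le_ker_of_notMem
    (p := LinearMap.range (C.d (a - 1) a).hom) (v := z) (fun ⟨v, hv⟩ => hz' ⟨v, hv⟩)
  have hf' : ∀ v : C.X (a - 1), f (C.d (a - 1) a v) = 0 := fun v => hf ⟨v, rfl⟩
  have hcoc := δ_single_rankOne C f w hf' hw 0 1 (by omega)
  let Φ : Cocycle C C 0 := Cocycle.mk (Cochain.single (rankOne C f w) 0) 1 (by omega) hcoc
  let φ := Cocycle.homOf Φ
  have hφ : Cochain.ofHom φ = Cochain.single (rankOne C f w) 0 :=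
    congrArg Subtype.val (Cocycle.ofHom_homOf_eq_self Φ)
  obtain ⟨c, hc⟩ := hEnd (Q.map φ)
  dsimp only at hc
  have h1 : Q.map φ = Q.map (c • 𝟙 C) := by
    rw [Functor.map_smul, CategoryTheory.Functor.map_id, hc]
  obtain ⟨Ψ, hΨ⟩ := exists_delta_of_Qmap_eq _ _ h1
  have h2 := δ_v_apply_cocycle C (show (-1 : ℤ) + 1 = 0 by omega) Ψ a a (by omega) z hz
  rw [← hΨ, hφ] at h2
  change (Cochain.single (rankOne C f w) 0).v a a _ z - (Cochain.ofHom (c • 𝟙 C)).v a a _ z = _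
    at h2
  rw [Cochain.single_v, rankOne_apply, Cochain.ofHom_v] at h2
  change f z • w - c • z = _ at h2
  refine ⟨(f z)⁻¹ * c, (f z)⁻¹ • Ψ.v a (a - 1) (by omega) z, ?_⟩
  rw [map_smul, ← h2, smul_sub, smul_smul, inv_mul_cancel₀ hfz, one_smul, smul_smul]

end End

/-- a nonzero object has a nonzero cohomology class -/
theorem exists_not_cobdry (h : ¬ IsZero (Q.obj C)) :
    ∃ (a : ℤ) (z : C.X a), C.d a (a + 1) z = 0 ∧ ¬ ∃ v : C.X (a - 1), C.d (a - 1) a v = z := by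
  by_contra hcon
  push_neg at hcon
  apply h
  have hac : Groth.Agent.Lib.Helper25.KFlat.Acyclic C := by
    rw [Groth.Agent.Lib.Helper25.KFlat.acyclic_iff]
    intro n₀ n₁ n₂ h01 h12 z hz
    obtain rfl : n₂ = n₁ + 1 := by omega
    obtain rfl : n₀ = n₁ - 1 := by omega
    exact hcon n₁ z hz
  have hex : ∀ i, C.ExactAt i := fun i => (C.exactAt_iff_isZero_homology i).2 (hac i)
  haveI : C.IsLE 0 := by
    rw [CochainComplex.isLE_iff]
    intro i _
    exact hex i
  haveI : C.IsGE 1 := by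
    rw [CochainComplex.isGE_iff]
    intro i _
    exact hex i
  haveI : (Q.obj C).IsLE 0 := (DerivedCategory.isLE_Q_obj_iff C 0).2 inferInstance
  haveI : (Q.obj C).IsGE 1 := (DerivedCategory.isGE_Q_obj_iff C 1).2 inferInstance
  rw [IsZero.iff_id_eq_zero]
  exact DerivedCategory.TStructure.t.zero_of_isLE_of_isGE _ 0 1 (by omega) inferInstance
    inferInstance

/-- the map `κ ⟶ C^i` with value `w` at `1` -/
noncomputable def toX {i : ℤ} (w : C.X i) : ModuleCat.of κ κ ⟶ C.X i :=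
  ModuleCat.ofHom (LinearMap.toSpanSingleton κ (C.X i) w)

theorem toX_apply_one {i : ℤ} (w : C.X i) : toX C w (1 : κ) = w := one_smul _ _

theorem toX_comp_d {i j : ℤ} (w : C.X i) : toX C w ≫ C.d i j = toX C (C.d i j w) := by
  refine ModuleCat.hom_ext (LinearMap.ext_ring ?_)
  change C.d i j ((1 : κ) • w) = (1 : κ) • C.d i j w
  rw [one_smul, one_smul]

theorem eq_toX {i : ℤ} (f : ModuleCat.of κ κ ⟶ C.X i) : f = toX C (f (1 : κ)) := by
  refine ModuleCat.hom_ext (LinearMap.ext_ring ?_)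
  exact (one_smul _ _).symm

theorem toX_sub {i : ℤ} (w w' : C.X i) : toX C (w - w') = toX C w - toX C w' := by
  refine ModuleCat.hom_ext (LinearMap.ext_ring ?_)
  change (1 : κ) • (w - w') = (1 : κ) • w - (1 : κ) • w'
  rw [smul_sub]

theorem toX_smul {i : ℤ} (c : κ) (w : C.X i) : toX C (c • w) = c • toX C w := by
  refine ModuleCat.hom_ext (LinearMap.ext_ring ?_)
  change (1 : κ) • (c • w) = c • ((1 : κ) • w)
  rw [one_smul, one_smul]

theorem toX_zero {i : ℤ} : toX C (0 : C.X i) = 0 := by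
  refine ModuleCat.hom_ext (LinearMap.ext_ring ?_)
  change (1 : κ) • (0 : C.X i) = 0
  rw [smul_zero]

theorem field_main (hEnd : Function.Bijective (fun c : κ => c • 𝟙 (Q.obj C)))
    (hExt : ∀ j : ℤ, j ≠ 0 → Subsingleton (Q.obj C ⟶ (Q.obj C)⟦j⟧)) :
    ∃ n : ℤ, (∀ i : ℤ, i ≠ n → Subsingleton (Q.obj (sgl (ModuleCat.of κ κ)) ⟶ (Q.obj C)⟦i⟧)) ∧
      ∃ g : Q.obj (sgl (ModuleCat.of κ κ)) ⟶ (Q.obj C)⟦n⟧, g ≠ 0 ∧ ∀ v, ∃ c : κ, v = c • g := by
  have hnz : ¬ IsZero (Q.obj C) := fun hz => by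
    have : (1 : κ) = 0 := hEnd.1 (hz.eq_of_src _ _)
    exact one_ne_zero this
  obtain ⟨n, z, hz, hz'⟩ := exists_not_cobdry C hnz
  have hfz : toX C z ≫ C.d n (n + 1) = 0 := by rw [toX_comp_d, hz, toX_zero]
  refine ⟨n, fun i hi => ?_, phiOf C n (toX C z) hfz, ?_, ?_⟩
  · suffices ∀ φ : Q.obj (sgl (ModuleCat.of κ κ)) ⟶ (Q.obj C)⟦i⟧, φ = 0 from
      ⟨fun φ ψ => by rw [this φ, this ψ]⟩
    intro φ
    obtain ⟨f, hf, rfl⟩ := exists_rep C i φ
    rw [phiOf_eq_zero_iff]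
    have hw : C.d i (i + 1) (f (1 : κ)) = 0 := by
      have := ConcreteCategory.congr_hom hf (1 : κ)
      exact this
    obtain ⟨v, hv⟩ := cobdry_of_ne C hExt hi z hz hz' (f (1 : κ)) hw
    refine ⟨toX C v, ?_⟩
    rw [toX_comp_d, hv]
    exact (eq_toX C f).symm
  · intro h0
    rw [phiOf_eq_zero_iff] at h0
    obtain ⟨g, hg⟩ := h0
    apply hz'
    refine ⟨g (1 : κ), ?_⟩
    have := ConcreteCategory.congr_hom hg (1 : κ)
    rw [toX_apply_one] at this
    exact this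
  · intro v
    obtain ⟨f, hf, rfl⟩ := exists_rep C n v
    have hw : C.d n (n + 1) (f (1 : κ)) = 0 := by
      have := ConcreteCategory.congr_hom hf (1 : κ)
      exact this
    obtain ⟨c, v', hv'⟩ := exists_smul_cobdry C hEnd.2 z hz hz' (f (1 : κ)) hw
    refine ⟨c, ?_⟩
    rw [smul_phiOf, phiOf_eq_iff]
    refine ⟨toX C v', ?_⟩
    rw [toX_comp_d, hv', toX_sub, toX_smul, ← eq_toX]

end Groth.Agent.Lib.Helper25.Bidual
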