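import Groth.Agent.Lib.Helper25.Bidual.Unit
import Groth.Agent.Lib.Helper25.Coext.Repr
import Groth.Agent.Lib.Helper25.TrivDual3

/-!
# Finite ring maps: the endomorphisms of `R(ω)`
-/

set_option autoImplicit false
universe u

namespace Groth.Agent.Lib.Helper25.Bidual

open CategoryTheory CategoryTheory.Limits HomologicalComplex CochainComplex
open CochainComplex.HomComplex DerivedCategory
open Groth.Agent.Lib.Helper25.Coext

attribute [local instance] HasDerivedCategory.standard

variable {A B : Type u} [CommRing A] [CommRing B] (φ : A →+* B) (J : Cx A)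

/-- `B` as an `A`-module -/
noncomputable abbrev resB : ModuleCat.{u} A :=
  (ModuleCat.restrictScalars.{u} φ).obj (ModuleCat.of B B)

/-- the underlying identity `Hom_A(B, N)|_A ≃ Hom_A(B|_A, N)` -/
noncomputable def resCoextEquiv (N : ModuleCat.{u} A) :
    ((ModuleCat.restrictScalars.{u} φ).obj ((ModuleCat.coextendScalars.{u, u, u} φ).obj N)) ≃ₗ[A]
      (resB φ →ₗ[A] N) where
  toFun := fun h => h
  invFun := fun h => h
  left_inv := fun _ => rfl
  right_inv := fun _ => rfl
  map_add' := fun _ _ => rfl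
  map_smul' := fun a (h : resB φ →ₗ[A] N) => by
    refine LinearMap.ext fun (x : B) => ?_
    have e1 : h (a • (show resB φ from x)) = a • h x := map_smul h a _
    have e2 : (x * φ a : B) = φ a * x := mul_comm _ _
    change h (show resB φ from (x * φ a : B)) = a • h x
    rw [e2]
    exact e1

/-- `Hom_A(B, J)|_A` is the complex `Hom(B|_A, J^n)` -/
noncomputable def resCoextIso : (resCx φ).obj ((coextCx φ).obj J) ≅ Dp J (resB φ) :=
  HomologicalComplex.Hom.isoOfComponents
    (fun n => (resCoextEquiv φ (J.X n)).toModuleIso)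
    (fun n m _ => by
      refine ModuleCat.hom_ext (LinearMap.ext fun h => ?_)
      rfl)

theorem resCoext_smul_counit (b : B) :
    (resCx φ).map (b • 𝟙 ((coextCx φ).obj J)) ≫ counitCx φ J =
      (resCoextIso φ J).hom ≫ evHom J (show (resB φ : Type u) from b) := by
  refine HomologicalComplex.hom_ext _ _ fun n => ModuleCat.hom_ext (LinearMap.ext fun h => ?_)
  have e : ((1 : B) * b) = b := one_mul b
  change (resCoextEquiv φ (J.X n) h) (show resB φ from ((1 : B) * b)) = (resCoextEquiv φ (J.X n) h) _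
  rw [e]

section Derived

variable {R : Dual.D A ⥤ Dual.D B} (adj : DRing.restrictD φ ⊣ R) [J.IsKInjective]

theorem res_theta_comp_counit :
    (DRing.restrictD φ).map (theta φ J adj) ≫ adj.counit.app (Q.obj J) = eMap φ J := by
  unfold theta
  exact (adj.homEquiv_counit _ _ _).symm.trans ((adj.homEquiv _ _).symm_apply_apply _)

/-- the comparison `(R (Q J))|_A ≅ Q (Hom(B|_A, J))` -/
noncomputable def iotaIso :
    (DRing.restrictD φ).obj (R.obj (Q.obj J)) ≅ Q.obj (Dp J (resB φ)) :=
  resIso φ J adj ≪≫ Q.mapIso (resCoextIso φ J)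

theorem key3a (b : B) :
    (DRing.restrictD φ).map (b • 𝟙 (R.obj (Q.obj J))) ≫ adj.counit.app (Q.obj J) =
      (iotaIso φ J adj).hom ≫ Q.map (evHom J (show (resB φ : Type u) from b)) := by
  have h1 : b • 𝟙 (R.obj (Q.obj J)) =
      inv (theta φ J adj) ≫ Q.map (b • 𝟙 ((coextCx φ).obj J)) ≫ theta φ J adj := by
    rw [Functor.map_smul, CategoryTheory.Functor.map_id, Linear.smul_comp, Category.id_comp,
      Linear.comp_smul, IsIso.inv_hom_id]
  rw [h1, Functor.map_comp, Functor.map_comp, Category.assoc, Category.assoc,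
    res_theta_comp_counit, res_Qmap_comp_eMap]
  unfold flat
  rw [resCoext_smul_counit, Functor.map_comp]
  simp [iotaIso, resIso, thetaIso]

include adj in
theorem bijective_smul_id (hq : QuasiIso ((eta J).app (resB φ))) :
    Function.Bijective (fun b : B => b • 𝟙 (R.obj (Q.obj J))) := by
  have h0 : Function.Bijective
      (fun ψ : Q.obj (Dp J (resB φ)) ⟶ Q.obj J => (iotaIso φ J adj).hom ≫ ψ) :=
    ⟨fun ψ ψ' h => (cancel_epi _).1 h, fun ψ => ⟨(iotaIso φ J adj).inv ≫ ψ, by simp⟩⟩
  have h1 : Function.Bijective (fun b : B =>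
      (DRing.restrictD φ).map (b • 𝟙 (R.obj (Q.obj J))) ≫ adj.counit.app (Q.obj J)) := by
    have : (fun b : B =>
        (DRing.restrictD φ).map (b • 𝟙 (R.obj (Q.obj J))) ≫ adj.counit.app (Q.obj J)) =
        (fun ψ : Q.obj (Dp J (resB φ)) ⟶ Q.obj J => (iotaIso φ J adj).hom ≫ ψ) ∘
          (fun b : B => Q.map (evHom J (show (resB φ : Type u) from b))) :=
      funext fun b => key3a φ J adj b
    rw [this]
    exact h0.comp (bijective_Qmap_evHom J (resB φ) hq)
  have h2 : Function.Bijective (fun f : R.obj (Q.obj J) ⟶ R.obj (Q.obj J) =>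
      (DRing.restrictD φ).map f ≫ adj.counit.app (Q.obj J)) := by
    have : (fun f : R.obj (Q.obj J) ⟶ R.obj (Q.obj J) =>
        (DRing.restrictD φ).map f ≫ adj.counit.app (Q.obj J)) = (adj.homEquiv _ _).symm :=
      funext fun f => (adj.homEquiv_counit _ _ f).symm
    rw [this]
    exact (adj.homEquiv _ _).symm.bijective
  exact (Function.Bijective.of_comp_iff' h2 _).1 h1

include adj in
theorem subsingleton_hom_shift_R (hq : QuasiIso ((eta J).app (resB φ))) (i : ℤ) (hi : i ≠ 0) :
    Subsingleton (R.obj (Q.obj J) ⟶ (R.obj (Q.obj J))⟦i⟧) := by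
  obtain ⟨e, -⟩ := Groth.Agent.Lib.Helper25.TrivDual.exists_semilinearEquiv R adj
    (R.obj (Q.obj J)) (Q.obj J) i
  haveI : Subsingleton ((DRing.restrictD φ).obj (R.obj (Q.obj J)) ⟶ (Q.obj J)⟦i⟧) := by
    haveI := subsingleton_hom_shift J (resB φ) hq i hi
    exact ⟨fun f g => by
      rw [← cancel_epi (iotaIso φ J adj).inv]
      exact Subsingleton.elim _ _⟩
  exact e.toEquiv.subsingleton

end Derived

end Groth.Agent.Lib.Helper25.Bidual
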