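import Groth.Agent.Lib.Helper25.Bidual.Finite
import Groth.Agent.S12537

/-!
# A right adjoint of restriction along a finite ring map preserves dualizing complexes
-/

set_option autoImplicit false
universe u

namespace Groth.Agent.Lib.Helper25.Bidual

open CategoryTheory CategoryTheory.Limits HomologicalComplex CochainComplex
open CochainComplex.HomComplex DerivedCategory
open Groth.Agent.Lib.Helper25.Coext

attribute [local instance] HasDerivedCategory.standard

section Iso

variable {A : Type u} [CommRing A]

theorem isDualizing_of_iso {K K' : Dual.D A} (e : K ≅ K') (h : Dual.IsDualizing A K) :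
    Dual.IsDualizing A K' where
  isNoetherianRing := h.isNoetherianRing
  finite_injective_dimension := by
    obtain ⟨a, b, hab⟩ := h.finite_injective_dimension
    refine ⟨a, b, fun M _ _ i hi => ?_⟩
    haveI := hab M i hi
    exact ⟨fun f g => by
      rw [← cancel_mono ((CategoryTheory.shiftFunctor (Dual.D A) i).map e.inv)]
      exact Subsingleton.elim _ _⟩
  finite_cohomology := fun i => by
    haveI := h.finite_cohomology i
    exact Module.Finite.equiv
      ((DerivedCategory.homologyFunctor (ModuleCat.{u} A) i).mapIso e).toLinearEquiv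
  toEnd_bijective := by
    have h0 : Function.Bijective (fun f : K ⟶ K => e.inv ≫ f ≫ e.hom) :=
      ⟨fun f g hfg => by
        dsimp only at hfg
        rwa [cancel_epi, cancel_mono] at hfg, fun g => ⟨e.hom ≫ g ≫ e.inv, by simp⟩⟩
    have : (fun a : A => a • 𝟙 K') = (fun f : K ⟶ K => e.inv ≫ f ≫ e.hom) ∘
        (fun a : A => a • 𝟙 K) := funext fun a => by
      dsimp only [Function.comp]
      rw [Linear.smul_comp, Linear.comp_smul, Category.id_comp, e.inv_hom_id]
    rw [this]
    exact h0.comp h.toEnd_bijective
  ext_self_subsingleton := fun i hi => by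
    haveI := h.ext_self_subsingleton i hi
    exact ⟨fun f g => by
      rw [← cancel_mono ((CategoryTheory.shiftFunctor (Dual.D A) i).map e.inv), ← cancel_epi e.hom]
      exact Subsingleton.elim _ _⟩

/-- a dualizing complex is represented by a bounded complex of injectives -/
theorem exists_bounded_injective_model [IsNoetherianRing A] (ω : Dual.D A)
    (hω : Dual.IsDualizing A ω) :
    ∃ (J : Cx A) (a b : ℤ), (∀ n, Injective (J.X n)) ∧ (∀ i, (i < a ∨ b < i) → IsZero (J.X i)) ∧
      Nonempty (Q.obj J ≅ ω) := by
  obtain ⟨a, b, hab⟩ := hω.finite_injective_dimension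
  obtain ⟨I, h1, h2, h3⟩ := (Groth.Agent.S12537.result (ModuleCat.{u} A) ω a (max a b)
    (le_max_left a b)).1 (fun F i hi φ => by
      haveI : Subsingleton (Dual.inD A F ⟶ ω⟦i⟧) := hab F i (by
        rcases hi with hi | hi
        · exact Or.inl hi
        · exact Or.inr (lt_of_le_of_lt (le_max_right a b) hi))
      exact Subsingleton.elim (α := Dual.inD A F ⟶ ω⟦i⟧) φ 0)
  exact ⟨I, a, max a b, h1, h2, h3⟩

end Iso

section Single

variable {A B : Type u} [CommRing A] [CommRing B] (φ : A →+* B)

/-- restriction of scalars commutes with the inclusion of modules in degree `0` -/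
noncomputable def resSingleIso (M : ModuleCat.{u} B) :
    (DRing.restrictD φ).obj ((DerivedCategory.singleFunctor (ModuleCat.{u} B) 0).obj M) ≅
      (DerivedCategory.singleFunctor (ModuleCat.{u} A) 0).obj
        ((ModuleCat.restrictScalars.{u} φ).obj M) :=
  (DRing.restrictD φ).mapIso ((DerivedCategory.singleFunctorIsoCompQ (ModuleCat.{u} B) 0).app M) ≪≫
    (ModuleCat.restrictScalars.{u} φ).mapDerivedCategoryFactors.app
      ((HomologicalComplex.single (ModuleCat.{u} B) (ComplexShape.up ℤ) 0).obj M) ≪≫
    Q.mapIso ((HomologicalComplex.singleMapHomologicalComplex (ModuleCat.restrictScalars.{u} φ)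
      (ComplexShape.up ℤ) 0).app M) ≪≫
    ((DerivedCategory.singleFunctorIsoCompQ (ModuleCat.{u} A) 0).app _).symm

end Single

section Main

variable {A B : Type u} [CommRing A] [CommRing B] [IsNoetherianRing A] [IsNoetherianRing B]
  (φ : A →+* B) (hφ : φ.Finite) {R : Dual.D A ⥤ Dual.D B} (adj : DRing.restrictD φ ⊣ R)

include hφ adj in
theorem isDualizing_rightAdjoint (ω : Dual.D A) (hω : Dual.IsDualizing A ω) :
    Dual.IsDualizing B (R.obj ω) := by
  obtain ⟨J, a, b, hJ, hb, ⟨e⟩⟩ := exists_bounded_injective_model ω hω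
  haveI : J.IsStrictlyGE a := by
    rw [CochainComplex.isStrictlyGE_iff]
    intro i hi
    exact hb i (Or.inl hi)
  haveI : J.IsKInjective := CochainComplex.isKInjective_of_injective J a
  have hωJ : Dual.IsDualizing A (Q.obj J) := isDualizing_of_iso e.symm hω
  letI := φ.toAlgebra
  haveI hfin : Module.Finite A B := hφ
  haveI : Module.Finite A ↑(resB φ) := hfin
  have hq : QuasiIso ((eta J).app (resB φ)) :=
    quasiIso_of_finite (DD J) (eta J) (shortExact_map_DD J hJ) (b - a)
      (fun M i hi => isZero_DD_homology J a b hb M i hi)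
      (quasiIso_eta_self J hωJ.toEnd_bijective hωJ.ext_self_subsingleton) ↑(resB φ)
  refine isDualizing_of_iso (R.mapIso e) ?_
  refine ⟨inferInstance, ?_, ?_, bijective_smul_id φ J adj hq,
    fun i hi => subsingleton_hom_shift_R φ J adj hq i hi⟩
  · obtain ⟨a', b', hab'⟩ := hωJ.finite_injective_dimension
    refine ⟨a', b', fun M _ _ i hi => ?_⟩
    obtain ⟨eq, -⟩ := Groth.Agent.Lib.Helper25.TrivDual.exists_semilinearEquiv R adj
      (Dual.inD B M) (Q.obj J) i
    haveI : Subsingleton ((DRing.restrictD φ).obj (Dual.inD B M) ⟶ (Q.obj J)⟦i⟧) := by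
      haveI := hab' ↑((ModuleCat.restrictScalars.{u} φ).obj (ModuleCat.of B M)) i hi
      exact ⟨fun f g => by
        rw [← cancel_epi (resSingleIso φ (ModuleCat.of B M)).inv]
        exact Subsingleton.elim _ _⟩
    exact eq.toEquiv.subsingleton
  · intro i
    haveI : (Q.obj J).IsGE a := by
      rw [DerivedCategory.isGE_Q_obj_iff]
      infer_instance
    exact Groth.Agent.Lib.Helper25.TrivDual.finite_homology_rightAdjoint R adj hφ (Q.obj J) a
      hωJ.finite_cohomology i

end Main

end Groth.Agent.Lib.Helper25.Bidual
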