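import Groth.Agent.Lib.Helper25.Bidual.Main
import Mathlib.RingTheory.LocalRing.ResidueField.Basic
import Mathlib.LinearAlgebra.Dimension.Free

/-!
# Finite local maps preserve normalized dualizing complexes
-/

set_option autoImplicit false
universe u

namespace Groth.Agent.Lib.Helper25.Bidual

open CategoryTheory CategoryTheory.Limits DerivedCategory

attribute [local instance] HasDerivedCategory.standard

section Additive

variable {C D : Type*} [Category C] [Category D] [Preadditive C] [Preadditive D]
  [HasBinaryBiproducts C]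

theorem subsingleton_hom_biprod (F : C ⥤ D) [F.Additive] (X Y : C) (Z : D)
    [Subsingleton (F.obj X ⟶ Z)] [Subsingleton (F.obj Y ⟶ Z)] :
    Subsingleton (F.obj (X ⊞ Y) ⟶ Z) := by
  suffices ∀ f : F.obj (X ⊞ Y) ⟶ Z, f = 0 from ⟨fun f g => by rw [this f, this g]⟩
  intro f
  have h : 𝟙 (F.obj (X ⊞ Y)) = F.map biprod.fst ≫ F.map biprod.inl +
      F.map biprod.snd ≫ F.map biprod.inr := by
    rw [← Functor.map_comp, ← Functor.map_comp, ← Functor.map_add, biprod.total,
      CategoryTheory.Functor.map_id]
  rw [← Category.id_comp f, h, Preadditive.add_comp, Category.assoc, Category.assoc,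
    Subsingleton.elim (F.map biprod.inl ≫ f) 0, Subsingleton.elim (F.map biprod.inr ≫ f) 0,
    comp_zero, comp_zero, add_zero]

end Additive

section

variable {A : Type u} [CommRing A]

theorem subsingleton_hom_of_iso {N N' : ModuleCat.{u} A} (e : N ≅ N') (Y : Dual.D A)
    (h : Subsingleton ((DerivedCategory.singleFunctor (ModuleCat.{u} A) 0).obj N ⟶ Y)) :
    Subsingleton ((DerivedCategory.singleFunctor (ModuleCat.{u} A) 0).obj N' ⟶ Y) :=
  ⟨fun f g => by
    rw [← cancel_epi ((DerivedCategory.singleFunctor (ModuleCat.{u} A) 0).map e.hom)]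
    exact Subsingleton.elim _ _⟩

theorem subsingleton_hom_pi (κ : Type u) [AddCommGroup κ] [Module A κ] (Y : Dual.D A)
    (h : Subsingleton (Dual.inD A κ ⟶ Y)) (r : ℕ) :
    Subsingleton (Dual.inD A (Fin r → κ) ⟶ Y) := by
  induction r with
  | zero =>
    have hz : IsZero (Dual.inD A (Fin 0 → κ)) :=
      Functor.map_isZero _ (ModuleCat.isZero_of_subsingleton _)
    exact ⟨fun f g => hz.eq_of_src _ _⟩
  | succ r ih =>
    haveI : Subsingleton ((DerivedCategory.singleFunctor (ModuleCat.{u} A) 0).obj
      (ModuleCat.of A κ) ⟶ Y) := h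
    haveI : Subsingleton ((DerivedCategory.singleFunctor (ModuleCat.{u} A) 0).obj
      (ModuleCat.of A (Fin r → κ)) ⟶ Y) := ih
    have h2 := subsingleton_hom_biprod (DerivedCategory.singleFunctor (ModuleCat.{u} A) 0)
      (ModuleCat.of A κ) (ModuleCat.of A (Fin r → κ)) Y
    exact subsingleton_hom_of_iso (ModuleCat.biprodIsoProd _ _ ≪≫
      (Fin.consLinearEquiv A (fun _ : Fin (r + 1) => κ)).toModuleIso) Y h2

end

section Local

variable {A B : Type u} [CommRing A] [CommRing B] [IsLocalRing A] [IsLocalRing B] [Algebra A B]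
  [IsLocalHom (algebraMap A B)] [Module.Finite A B]

/-- the residue field of `B`, restricted to `A`, is a finite direct sum of copies of the residue
field of `A` -/
theorem exists_linearEquiv_residueField :
    ∃ r : ℕ, Nonempty (((ModuleCat.restrictScalars.{u} (algebraMap A B)).obj
      (ModuleCat.of B (IsLocalRing.ResidueField B)) : ModuleCat.{u} A) ≃ₗ[A]
        (Fin r → IsLocalRing.ResidueField A)) := by
  let e1 : IsLocalRing.ResidueField B ≃ₗ[IsLocalRing.ResidueField A]
      (Fin (Module.finrank (IsLocalRing.ResidueField A) (IsLocalRing.ResidueField B)) →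
        IsLocalRing.ResidueField A) :=
    (Module.finBasis (IsLocalRing.ResidueField A) (IsLocalRing.ResidueField B)).equivFun
  let e2 : ((ModuleCat.restrictScalars.{u} (algebraMap A B)).obj
      (ModuleCat.of B (IsLocalRing.ResidueField B)) : ModuleCat.{u} A) ≃ₗ[A]
        IsLocalRing.ResidueField B :=
    { toFun := fun x => x
      invFun := fun x => x
      left_inv := fun _ => rfl
      right_inv := fun _ => rfl
      map_add' := fun _ _ => rfl
      map_smul' := fun a (x : IsLocalRing.ResidueField B) => by
        change algebraMap A B a • x = a • x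
        rw [algebraMap_smul] }
  exact ⟨_, ⟨e2.trans (e1.restrictScalars A)⟩⟩

theorem isNormalized_rightAdjoint {R : Dual.D A ⥤ Dual.D B}
    (adj : DRing.restrictD (algebraMap A B) ⊣ R) (ω : Dual.D A) (hn : Dual.IsNormalized A ω) :
    Dual.IsNormalized B (R.obj ω) := by
  intro i hi
  obtain ⟨eq, -⟩ := Groth.Agent.Lib.Helper25.TrivDual.exists_semilinearEquiv R adj
    (Dual.inD B (IsLocalRing.ResidueField B)) ω i
  haveI : Subsingleton ((DRing.restrictD (algebraMap A B)).obj
      (Dual.inD B (IsLocalRing.ResidueField B)) ⟶ ω⟦i⟧) := by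
    obtain ⟨r, ⟨e⟩⟩ := exists_linearEquiv_residueField (A := A) (B := B)
    have h1 := subsingleton_hom_pi (IsLocalRing.ResidueField A) (ω⟦i⟧) (hn i hi) r
    have h2 := subsingleton_hom_of_iso e.symm.toModuleIso (ω⟦i⟧) h1
    exact ⟨fun f g => by
      rw [← cancel_epi (resSingleIso (algebraMap A B)
        (ModuleCat.of B (IsLocalRing.ResidueField B))).inv]
      exact Subsingleton.elim _ _⟩
  exact eq.toEquiv.subsingleton

end Local

end Groth.Agent.Lib.Helper25.Bidual
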