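import Groth.Agent.Lib.Helper25.Coext.Repr
import Groth.Agent.Lib.Helper25.RHomKInj
import Mathlib.CategoryTheory.Adjunction.PartialAdjoint

/-!
# Restriction of scalars on derived categories has a right adjoint
-/

set_option autoImplicit false
universe u

namespace Groth.Agent.Lib.Helper25.Bidual

open CategoryTheory CategoryTheory.Limits DerivedCategory Opposite
open Groth.Agent.Lib.Helper25.Coext

attribute [local instance] HasDerivedCategory.standard

variable {A B : Type u} [CommRing A] [CommRing B] (π : A →+* B)

theorem bijective_res_comp_eMap' (J : Cx A) [J.IsKInjective] (T : Dual.D B) :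
    Function.Bijective (fun g : T ⟶ Q.obj ((coextCx π).obj J) =>
      (DRing.restrictD π).map g ≫ eMap π J) := by
  let M₀ := Q.objPreimage T
  let i : Q.obj M₀ ≅ T := Q.objObjPreimageIso T
  have h1 := bijective_res_comp_eMap π J M₀
  constructor
  · intro x y hxy
    dsimp only at hxy
    have := h1.1 (a₁ := i.hom ≫ x) (a₂ := i.hom ≫ y) (by
      dsimp only
      rw [Functor.map_comp, Functor.map_comp, Category.assoc, Category.assoc, hxy])
    exact (cancel_epi i.hom).1 this
  · intro y
    obtain ⟨x, hx⟩ := h1.2 ((DRing.restrictD π).map i.hom ≫ y)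
    refine ⟨i.inv ≫ x, ?_⟩
    dsimp only at hx ⊢
    rw [Functor.map_comp, Category.assoc, hx, ← Category.assoc, ← Functor.map_comp,
      i.inv_hom_id, CategoryTheory.Functor.map_id, Category.id_comp]

/-- restriction of scalars `D(B) ⥤ D(A)` is a left adjoint -/
instance isLeftAdjoint_restrictD : (DRing.restrictD π).IsLeftAdjoint := by
  apply Functor.isLeftAdjoint_of_rightAdjointObjIsDefined_eq_top
  ext Y
  simp only [Pi.top_apply, Prop.top_eq_true, iff_true]
  obtain ⟨J, hJ, ⟨e⟩⟩ := Groth.Agent.Lib.Helper25.RHomKInj.exists_kInj Y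
  haveI := hJ
  have hbij : ∀ T : Dual.D B, Function.Bijective
      (fun g : T ⟶ Q.obj ((coextCx π).obj J) =>
        ((DRing.restrictD π).map g ≫ eMap π J) ≫ e.hom) := fun T =>
    (show Function.Bijective (fun h : (DRing.restrictD π).obj T ⟶ Q.obj J => h ≫ e.hom) from
      ⟨fun h h' hh => (cancel_mono e.hom).1 hh, fun h => ⟨h ≫ e.inv, by simp⟩⟩).comp
      (bijective_res_comp_eMap' π J T)
  exact (Functor.RepresentableBy.isRepresentable
    (F := (DRing.restrictD π).op ⋙ yoneda.obj Y) (Y := Q.obj ((coextCx π).obj J))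
    { homEquiv := fun {T} => Equiv.ofBijective _ (hbij T)
      homEquiv_comp := fun {T T'} f g => by
        change ((DRing.restrictD π).map (f ≫ g) ≫ eMap π J) ≫ e.hom =
          (DRing.restrictD π).map f ≫ (((DRing.restrictD π).map g ≫ eMap π J) ≫ e.hom)
        rw [Functor.map_comp, Category.assoc, Category.assoc, Category.assoc] })

end Groth.Agent.Lib.Helper25.Bidual
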