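import Groth.Agent.Lib.Helper25.Bidual.Main
import Groth.Agent.Lib.Helper25.Bidual.Field
import Groth.Agent.Lib.Helper25.Bidual.RightAdj

/-!
# `RHom(κ, ω) = κ[-n]` for a dualizing complex `ω` and a residue field `κ = A/m`
-/

set_option autoImplicit false
universe u

namespace Groth.Agent.Lib.Helper25.Bidual

open CategoryTheory CategoryTheory.Limits DerivedCategory
open Groth.Agent.Lib.Helper25.Coext Groth.Agent.Lib.Helper25.LocColim

attribute [local instance] HasDerivedCategory.standard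

section Transfer

variable {A : Type u} [CommRing A] (m : Ideal A)

/-- an `A`-module which is semilinearly a one-dimensional `A/m`-vector space is `A/m` -/
theorem nonempty_linearEquiv_quot {V W : Type*} [AddCommGroup V] [Module (A ⧸ m) V]
    [AddCommGroup W] [Module A W] [hm : m.IsMaximal] (e : V ≃+ W)
    (he : ∀ (a : A) (v : V), e (Ideal.Quotient.mk m a • v) = a • e v)
    (g : V) (hg : g ≠ 0) (hgen : ∀ v : V, ∃ c : A ⧸ m, v = c • g) :
    Nonempty (W ≃ₗ[A] (A ⧸ m)) := by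
  let ψ : A →ₗ[A] W := LinearMap.toSpanSingleton A W (e g)
  have hψ : ∀ a : A, ψ a = e (Ideal.Quotient.mk m a • g) := fun a => (he a g).symm
  have hsurj : Function.Surjective ψ := fun w => by
    obtain ⟨c, hc⟩ := hgen (e.symm w)
    obtain ⟨a, rfl⟩ := Ideal.Quotient.mk_surjective c
    exact ⟨a, by rw [hψ, ← hc, AddEquiv.apply_symm_apply]⟩
  have hker : LinearMap.ker ψ = m.restrictScalars A := by
    ext a
    rw [LinearMap.mem_ker, hψ]
    constructor
    · intro h
      have h1 : Ideal.Quotient.mk m a • g = 0 := by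
        rw [← e.map_zero] at h
        exact e.injective h
      by_contra ha
      obtain ⟨y, i, hi, hyi⟩ := hm.exists_inv ha
      apply hg
      have h3 : g = Ideal.Quotient.mk m (y * a + i) • g := by rw [hyi, map_one, one_smul]
      rw [h3, map_add, map_mul, add_smul, mul_smul, h1, smul_zero,
        Ideal.Quotient.eq_zero_iff_mem.2 hi, zero_smul, add_zero]
    · intro h
      have : Ideal.Quotient.mk m a = 0 := Ideal.Quotient.eq_zero_iff_mem.2 h
      rw [this, zero_smul, map_zero]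
  exact ⟨(ψ.quotKerEquivOfSurjective hsurj).symm.trans (Submodule.quotEquivOfEq _ _ hker)⟩

end Transfer

section Main

variable {A : Type u} [CommRing A] [IsNoetherianRing A] (m : Ideal A)

/-- `A/m` as an `A`-module is the restriction of scalars of `A/m` -/
noncomputable def quotResEquiv' :
    (A ⧸ m) ≃ₗ[A]
      ((ModuleCat.restrictScalars.{u} (Ideal.Quotient.mk m)).obj
        (ModuleCat.of (A ⧸ m) (A ⧸ m)) : ModuleCat.{u} A) where
  toFun := fun x => x
  invFun := fun x => x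
  left_inv := fun _ => rfl
  right_inv := fun _ => rfl
  map_add' := fun _ _ => rfl
  map_smul' := fun a (x : A ⧸ m) => by
    change a • x = Ideal.Quotient.mk m a * x
    rw [Algebra.smul_def]
    rfl

/-- `A/m` as an `A`-module is the restriction of scalars of `A/m` -/
noncomputable def quotResIso' :
    ModuleCat.of A (A ⧸ m) ≅
      (ModuleCat.restrictScalars.{u} (Ideal.Quotient.mk m)).obj (ModuleCat.of (A ⧸ m) (A ⧸ m)) :=
  (quotResEquiv' m).toModuleIso

variable [m.IsMaximal] (ω : Dual.D A) (hω : Dual.IsDualizing A ω)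

include hω in
theorem residue_main :
    ∃ n : ℤ, (∀ i : ℤ, i ≠ n → Subsingleton (Dual.inD A (A ⧸ m) ⟶ ω⟦i⟧)) ∧
      Nonempty ((Dual.inD A (A ⧸ m) ⟶ ω⟦n⟧) ≃ₗ[A] (A ⧸ m)) := by
  let π : A →+* A ⧸ m := Ideal.Quotient.mk m
  let R := (DRing.restrictD π).rightAdjoint
  let adj : DRing.restrictD π ⊣ R := Adjunction.ofIsLeftAdjoint _
  have hX : Dual.IsDualizing (A ⧸ m) (R.obj ω) :=
    isDualizing_rightAdjoint π (RingHom.Finite.of_surjective π Ideal.Quotient.mk_surjective)
      adj ω hω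
  obtain ⟨J, hJ, ⟨e⟩⟩ := Groth.Agent.Lib.Helper25.RHomKInj.exists_kInj ω
  haveI := hJ
  let C := (coextCx π).obj J
  let θ : Q.obj C ≅ R.obj ω := thetaIso π J adj ≪≫ R.mapIso e
  have hC := isDualizing_of_iso θ.symm hX
  letI : Field (A ⧸ m) := Ideal.Quotient.field m
  obtain ⟨n, h1, g, hg, hgen⟩ := field_main C hC.toEnd_bijective hC.ext_self_subsingleton
  let α : Q.obj (sgl (ModuleCat.of (A ⧸ m) (A ⧸ m))) ≅ Dual.inD (A ⧸ m) (A ⧸ m) :=
    ((DerivedCategory.singleFunctorIsoCompQ (ModuleCat.{u} (A ⧸ m)) 0).app _).symm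
  let β : (DRing.restrictD π).obj (Dual.inD (A ⧸ m) (A ⧸ m)) ≅ Dual.inD A (A ⧸ m) :=
    resSingleIso π (ModuleCat.of (A ⧸ m) (A ⧸ m)) ≪≫
      (DerivedCategory.singleFunctor (ModuleCat.{u} A) 0).mapIso (quotResIso' m).symm
  have hE : ∀ i : ℤ, ∃ E : (Q.obj (sgl (ModuleCat.of (A ⧸ m) (A ⧸ m))) ⟶ (Q.obj C)⟦i⟧) ≃+
      (Dual.inD A (A ⧸ m) ⟶ ω⟦i⟧), ∀ (a : A) v, E (π a • v) = a • E v := by
    intro i
    obtain ⟨e₂, he₂⟩ := Groth.Agent.Lib.Helper25.TrivDual.exists_semilinearEquiv R adj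
      (Dual.inD (A ⧸ m) (A ⧸ m)) ω i
    let E₁ := Linear.homCongr (A ⧸ m) α ((CategoryTheory.shiftFunctor (Dual.D (A ⧸ m)) i).mapIso θ)
    let E₃ := Linear.homCongr A β (Iso.refl (ω⟦i⟧))
    refine ⟨(E₁.toAddEquiv.trans e₂).trans E₃.toAddEquiv, fun a v => ?_⟩
    change E₃ (e₂ (E₁ (π a • v))) = a • E₃ (e₂ (E₁ v))
    rw [map_smul, he₂, map_smul]
  refine ⟨n, fun i hi => ?_, ?_⟩
  · obtain ⟨E, -⟩ := hE i
    haveI := h1 i hi
    exact E.symm.toEquiv.subsingleton
  · obtain ⟨E, hE'⟩ := hE n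
    exact nonempty_linearEquiv_quot m E hE' g hg hgen

end Main

end Groth.Agent.Lib.Helper25.Bidual
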