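import Groth.Agent.Lib.Helper25.Bidual.Elem
import Groth.Agent.Lib.Helper25.QisElem

/-!
# The biduality map for `M = A`

If `J` is K-injective with `A ≃ End_{D(A)}(J)` and `Hom_{D(A)}(J, J[i]) = 0` for `i ≠ 0`, then
`A[0] ⟶ Hom•(Hom(A, J), J)` is a quasi-isomorphism.
-/

set_option autoImplicit false
universe u

namespace Groth.Agent.Lib.Helper25.Bidual

open CategoryTheory CategoryTheory.Limits HomologicalComplex CochainComplex
open CochainComplex.HomComplex DerivedCategory
open Groth.Agent.Lib.Helper25.LocColim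

attribute [local instance] HasDerivedCategory.standard

variable {A : Type u} [CommRing A] (J : Cx A)

/-- evaluation at `1` is an isomorphism `Hom(A, J) ≅ J` -/
noncomputable def ev1Iso : Dp J (ModuleCat.of A A) ≅ J :=
  HomologicalComplex.Hom.isoOfComponents
    (fun n => (LinearMap.ringLmapEquivSelf A A (J.X n)).toModuleIso)
    (fun n m _ => by
      refine ModuleCat.hom_ext (LinearMap.ext fun (h : A →ₗ[A] J.X n) => ?_)
      rfl)

theorem ev1Iso_hom : (ev1Iso J).hom = evHom J (1 : A) := by
  refine HomologicalComplex.hom_ext _ _ fun n => ModuleCat.hom_ext (LinearMap.ext fun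
    (h : A →ₗ[A] J.X n) => ?_)
  rfl

instance : IsIso (evHom J (1 : A) : Dp J (ModuleCat.of A A) ⟶ J) := by
  rw [← ev1Iso_hom]
  infer_instance

theorem evHom_eq (a : A) :
    (evHom J a : Dp J (ModuleCat.of A A) ⟶ J) = evHom J (1 : A) ≫ (a • 𝟙 J) := by
  refine HomologicalComplex.hom_ext _ _ fun n => ModuleCat.hom_ext (LinearMap.ext fun
    (h : A →ₗ[A] J.X n) => ?_)
  change h a = a • h 1
  rw [← map_smul, smul_eq_mul, mul_one]

theorem Qmap_evHom_eq (a : A) :
    Q.map (evHom J a : Dp J (ModuleCat.of A A) ⟶ J) = Q.map (evHom J (1 : A)) ≫ (a • 𝟙 (Q.obj J)) := by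
  rw [evHom_eq, Functor.map_comp, Functor.map_smul, CategoryTheory.Functor.map_id]

variable [J.IsKInjective]
  (hEnd : Function.Bijective (fun a : A => a • 𝟙 (Q.obj J)))
  (hExt : ∀ i : ℤ, i ≠ 0 → Subsingleton (Q.obj J ⟶ (Q.obj J)⟦i⟧))

include hEnd hExt in
theorem quasiIso_eta_self : QuasiIso ((eta J).app (ModuleCat.of A A)) := by
  apply Groth.Agent.Lib.Helper25.QisElem.quasiIso_of_elementwise
  · intro n m k hnm hmk x _ y hy
    by_cases hm : m = 0
    · subst hm
      obtain rfl : n = -1 := by omega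
      rw [eta_f_zero] at hy
      set a : A := (singleObjXSelf (ComplexShape.up ℤ) 0 (ModuleCat.of A A)).hom x with ha
      have h1 : Q.map (evHom J a : Dp J (ModuleCat.of A A) ⟶ J) = Q.map 0 :=
        Qmap_eq_of_delta _ _ y (by rw [Cochain.ofHom_zero, sub_zero]; exact hy)
      rw [Qmap_evHom_eq, Functor.map_zero] at h1
      have h2 : a • 𝟙 (Q.obj J) = 0 := by
        have := congrArg (fun t => inv (Q.map (evHom J (1 : A))) ≫ t) h1
        simpa using this
      have h3 : a = 0 := hEnd.1 (by dsimp only; rw [h2, zero_smul])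
      refine ⟨0, ?_⟩
      rw [map_zero]
      have h4 : x = (singleObjXSelf (ComplexShape.up ℤ) 0 (ModuleCat.of A A)).inv a := by
        rw [ha]
        exact (ConcreteCategory.congr_hom
          (singleObjXSelf (ComplexShape.up ℤ) 0 (ModuleCat.of A A)).hom_inv_id x).symm
      rw [h4, h3, map_zero]
    · refine ⟨0, ?_⟩
      rw [map_zero]
      exact (ModuleCat.subsingleton_of_isZero
        (HomologicalComplex.isZero_single_obj_X (ComplexShape.up ℤ) 0 _ m hm)).elim _ _
  · intro n m k hnm hmk (y : Cochain (Dp J (ModuleCat.of A A)) J m) (hy : δ m k y = 0)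
    by_cases hm : m = 0
    · subst hm
      obtain rfl : n = -1 := by omega
      obtain rfl : k = 1 := by omega
      let z : Cocycle (Dp J (ModuleCat.of A A)) J 0 := Cocycle.mk y 1 (by omega) hy
      let φ := Cocycle.homOf z
      have hφ : Cochain.ofHom φ = y := congrArg Subtype.val (Cocycle.ofHom_homOf_eq_self z)
      obtain ⟨a, ha⟩ := hEnd.2 (inv (Q.map (evHom J (1 : A))) ≫ Q.map φ)
      dsimp only at ha
      have h1 : Q.map φ = Q.map (evHom J a) := by
        rw [Qmap_evHom_eq, ha, IsIso.hom_inv_id_assoc]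
      obtain ⟨w, hw⟩ := exists_delta_of_Qmap_eq _ _ h1
      refine ⟨(singleObjXSelf (ComplexShape.up ℤ) 0 (ModuleCat.of A A)).inv a, w, ?_, ?_⟩
      · rw [HomologicalComplex.single_obj_d]
        rfl
      · rw [eta_f_zero]
        have : (singleObjXSelf (ComplexShape.up ℤ) 0 (ModuleCat.of A A)).hom
            ((singleObjXSelf (ComplexShape.up ℤ) 0 (ModuleCat.of A A)).inv a) = a :=
          ConcreteCategory.congr_hom
            (singleObjXSelf (ComplexShape.up ℤ) 0 (ModuleCat.of A A)).inv_hom_id a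
        rw [this, ← hφ]
        exact hw
    · have hsub : Subsingleton (Q.obj (Dp J (ModuleCat.of A A)) ⟶ (Q.obj J)⟦m⟧) := by
        haveI := hExt m hm
        exact ⟨fun f g => by
          rw [← cancel_epi (inv (Q.map (evHom J (1 : A))))]
          exact Subsingleton.elim _ _⟩
      obtain rfl : k = m + 1 := by omega
      let z : Cocycle (Dp J (ModuleCat.of A A)) J m := Cocycle.mk y (m + 1) rfl hy
      have hz : kappa _ _ m (CohomologyClass.mk z) = 0 := Subsingleton.elim _ _
      rw [kappa_mk_eq_zero_iff, mem_coboundaries_iff z n hnm] at hz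
      obtain ⟨w, hw⟩ := hz
      refine ⟨0, w, by rw [map_zero], ?_⟩
      rw [map_zero, sub_zero]
      exact hw.symm

end Groth.Agent.Lib.Helper25.Bidual
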